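import Groth.Agent.Lib.Helper80.GV.ProSpec

/-!
# Vanishing of cohomology on a basis of quasi-compact opens, from Mayer–Vietoris (helper80)

Abstract version for a `CohData`: if `𝔅` is a basis of quasi-compact opens closed under finite
intersections and unions, and degree-zero classes extend from `A ⊓ C` to `A` for `A, C ∈ 𝔅`, then
all classes of positive degree on members of `𝔅` vanish.
-/

set_option autoImplicit false
universe u

open Set TopologicalSpace Topology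

namespace Groth.Agent.Lib.Helper80.GV

variable {Y : Type u} [TopologicalSpace Y] (D : CohData Y) (𝔅 : Set (Opens Y))

/-- one degree of the induction -/
theorem CohData.eq_zero_of_basis_step
    (hbot : (⊥ : Opens Y) ∈ 𝔅)
    (hbasis : ∀ (O : Opens Y) (y : Y), y ∈ O → ∃ B ∈ 𝔅, y ∈ B ∧ B ≤ O)
    (hsup : ∀ B ∈ 𝔅, ∀ B' ∈ 𝔅, B ⊔ B' ∈ 𝔅)
    (hc : ∀ B ∈ 𝔅, IsCompact (B : Set Y)) (p : ℕ)
    (hL : ∀ A ∈ 𝔅, ∀ C ∈ 𝔅, ∀ η : D.H p (A ⊓ C),
      ∃ a' : D.H p A, D.rs (inf_le_left : A ⊓ C ≤ A) a' = η)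
    (B : Opens Y) (hB : B ∈ 𝔅) (ξ : D.H (p + 1) B) : ξ = D.zero (p + 1) B := by
  classical
  -- local vanishing on members of the basis
  have hloc : ∀ y : {y : Y // y ∈ B}, ∃ (B' : Opens Y) (h : B' ≤ B), B' ∈ 𝔅 ∧ y.1 ∈ B' ∧
      D.rs h ξ = D.zero (p + 1) B' := by
    rintro ⟨y, hy⟩
    obtain ⟨V, hV, hyV, hξ⟩ := D.kill p B ξ y hy
    obtain ⟨B', hB', hyB', hB'V⟩ := hbasis V y hyV
    exact ⟨B', hB'V.trans hV, hB', hyB', D.rs_eq_zero_of_le hV hB'V ξ hξ⟩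
  choose Bf hBf hBf𝔅 hyBf hξBf using hloc
  obtain ⟨T, hT⟩ := (hc B hB).elim_finite_subcover (fun y => (Bf y : Set Y)) (fun y => (Bf y).2)
    (fun y hy => mem_iUnion.2 ⟨⟨y, hy⟩, hyBf _⟩)
  -- induction over finite unions
  have key : ∀ T' : Finset {y : Y // y ∈ B}, T'.sup Bf ∈ 𝔅 ∧
      ∀ h : T'.sup Bf ≤ B, D.rs h ξ = D.zero (p + 1) (T'.sup Bf) := by
    intro T'
    induction T' using Finset.induction_on with
    | empty =>
      refine ⟨by simpa using hbot, fun h => ?_⟩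
      exact D.zero_of_empty _ _ (by simp) _
    | insert y T' hy ih =>
      obtain ⟨ih1, ih2⟩ := ih
      rw [Finset.sup_insert]
      refine ⟨hsup _ (hBf𝔅 y) _ ih1, fun h => ?_⟩
      have hA : Bf y ≤ B := hBf y
      have hC : T'.sup Bf ≤ B := le_sup_right.trans h
      obtain ⟨η, hη⟩ := D.vanish p (Bf y) (T'.sup Bf) (D.rs h ξ)
        (by rw [D.rs_rs]; exact hξBf y) (by rw [D.rs_rs]; exact ih2 hC)
      obtain ⟨a', ha'⟩ := hL (Bf y) (hBf𝔅 y) (T'.sup Bf) ih1 η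
      have h1 := hη (Bf y) (T'.sup Bf) le_rfl le_rfl a' (by rw [ha', D.rs_refl])
      rw [D.rs_refl] at h1
      exact h1
  obtain ⟨-, hkey⟩ := key T
  have hle : T.sup Bf ≤ B := Finset.sup_le (fun y _ => hBf y)
  have hge : B ≤ T.sup Bf := by
    intro x hx
    obtain ⟨y, hy⟩ := mem_iUnion.1 (hT hx)
    obtain ⟨hyT, hxy⟩ := mem_iUnion.1 hy
    exact (Finset.le_sup (f := Bf) hyT : Bf y ≤ T.sup Bf) hxy
  have h0 := hkey hle
  have h1 := congrArg (D.rs hge) h0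
  rw [D.rs_rs, D.rs_refl, D.rs_zero] at h1
  exact h1

/-- **vanishing on a basis**: all classes of positive degree on members of `𝔅` vanish -/
theorem CohData.eq_zero_of_basis
    (hbot : (⊥ : Opens Y) ∈ 𝔅)
    (hbasis : ∀ (O : Opens Y) (y : Y), y ∈ O → ∃ B ∈ 𝔅, y ∈ B ∧ B ≤ O)
    (hinf : ∀ B ∈ 𝔅, ∀ B' ∈ 𝔅, B ⊓ B' ∈ 𝔅) (hsup : ∀ B ∈ 𝔅, ∀ B' ∈ 𝔅, B ⊔ B' ∈ 𝔅)
    (hc : ∀ B ∈ 𝔅, IsCompact (B : Set Y))
    (hsurj : ∀ A ∈ 𝔅, ∀ C ∈ 𝔅, ∀ η : D.H 0 (A ⊓ C),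
      ∃ a' : D.H 0 A, D.rs (inf_le_left : A ⊓ C ≤ A) a' = η)
    (p : ℕ) (B : Opens Y) (hB : B ∈ 𝔅) (ξ : D.H (p + 1) B) : ξ = D.zero (p + 1) B := by
  induction p generalizing B with
  | zero => exact D.eq_zero_of_basis_step 𝔅 hbot hbasis hsup hc 0 hsurj B hB ξ
  | succ p ih =>
    refine D.eq_zero_of_basis_step 𝔅 hbot hbasis hsup hc (p + 1) ?_ B hB ξ
    intro A hA C hC η
    refine ⟨D.zero (p + 1) A, ?_⟩
    rw [D.rs_zero]
    exact (ih (A ⊓ C) (hinf A hA C hC) η).symm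

end Groth.Agent.Lib.Helper80.GV
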