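import Groth.Agent.Lib.Helper80.Pro.ProSec
import Groth.Agent.Lib.Helper80.Pro.BasisVan
import Groth.Agent.Lib.Helper80.GV.Spectral

/-!
# The restriction of a flasque sheaf to a pro-open subset of a spectral space is acyclic (helper80)
-/

set_option autoImplicit false
universe u

open CategoryTheory CategoryTheory.Limits TopologicalSpace Opposite Set Abelian

namespace Groth.Agent.Lib.Helper80.ProSec

open Groth.Agent.Lib.Helper80.GV Groth.Agent.Lib.Helper80.PullSec Groth.Agent.Lib.Helper4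

section General

variable {Y : TopCat.{u}} (P : CohTop.Ab Y)

lemma res_refl {B : Opens Y} (s : P.obj.obj (op B)) :
    P.obj.map (homOfLE (le_refl B)).op s = s := by
  have h : (homOfLE (le_refl B)).op = 𝟙 (op B) := rfl
  rw [h, P.obj.map_id]
  rfl

lemma eq_of_res_eq_of_le {B' O : Opens Y} (h1 : O ≤ B') (h2 : B' ≤ O) (x y : P.obj.obj (op B'))
    (h : P.obj.map (homOfLE h1).op x = P.obj.map (homOfLE h1).op y) : x = y := by
  have h3 := congrArg (P.obj.map (homOfLE h2).op) h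
  rw [res_res, res_res, res_refl, res_refl] at h3
  exact h3

/-- degree-zero classes extend if sections do -/
lemma ext0_surj_of_sections {B' B : Opens Y} (h : B' ≤ B)
    (hs : Function.Surjective (P.obj.map (homOfLE h).op)) (η : Ext (G B') P 0) :
    ∃ a' : Ext (G B) P 0, (Ext.mk₀ (ιG h)).comp a' (zero_add 0) = η := by
  obtain ⟨φ, rfl⟩ := (Ext.mk₀_bijective _ _).2 η
  obtain ⟨σ', hσ'⟩ := hs (ZUev B' P φ)
  obtain ⟨φ', hφ'⟩ := (ZUev_bijective B P).2 σ'
  refine ⟨Ext.mk₀ φ', ?_⟩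
  rw [Ext.mk₀_comp_mk₀]
  congr 1
  apply (ZUev_bijective B' P).1
  have h1 := ZUev_map (J := Opens.grothendieckTopology Y) (homOfLE h) P φ'
  rw [hφ', hσ'] at h1
  exact h1

end General

variable {X : TopCat.{u}} (W : Set X)

/-- the opens `W ∩ U` of `W`, for `U` quasi-compact open in `X` -/
def qcB : Set (Opens (TopCat.of W)) :=
  {B | ∃ U : Opens X, IsCompact (U : Set X) ∧ B = (Opens.map (jW W)).obj U}

lemma isCompact_map_jW [SpectralSpace X] (hW : ProOpen W) (U : Opens X)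
    (hU : IsCompact (U : Set X)) :
    IsCompact (((Opens.map (jW W)).obj U : Opens (TopCat.of W)) : Set (TopCat.of W)) := by
  have hind : Topology.IsInducing (Subtype.val : W → X) := Topology.IsInducing.subtypeVal
  rw [hind.isCompact_iff]
  have h1 : Subtype.val '' (((Opens.map (jW W)).obj U : Opens (TopCat.of W)) : Set (TopCat.of W)) =
      W ∩ U := Subtype.image_preimage_coe W U
  rw [h1]
  exact (hW.inter_opens U hU).isCompact

variable (I : CohTop.Ab X)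

/-- sections of the restriction of a flasque sheaf extend from `W ∩ U ∩ U'` to `W ∩ U` -/
theorem pF_res_surjective [SpectralSpace X] (hW : ProOpen W) [TopCat.Sheaf.IsFlasque I]
    (U U' : Opens X) (hU : IsCompact (U : Set X)) (hU' : IsCompact (U' : Set X))
    {B' : Opens (TopCat.of W)} (h1 : B' ≤ (Opens.map (jW W)).obj (U ⊓ U'))
    (h2 : (Opens.map (jW W)).obj (U ⊓ U') ≤ B') (hB : B' ≤ (Opens.map (jW W)).obj U) :
    Function.Surjective ((pF (jW W) I).obj.map (homOfLE hB).op) := by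
  intro τ
  obtain ⟨V, hVc, hWV, s, hs⟩ := exists_ηs_eq W I hW (U ⊓ U')
    (QuasiSeparatedSpace.inter_isCompact _ _ U.2 hU U'.2 hU')
    ((pF (jW W) I).obj.map (homOfLE h2).op τ)
  have hle : V ⊓ (U ⊓ U') ≤ U := inf_le_right.trans inf_le_left
  have hepi : Epi (I.obj.map (homOfLE hle).op) := TopCat.Presheaf.IsFlasque.epi _
  obtain ⟨ŝ, hŝ⟩ := (AddCommGrpCat.epi_iff_surjective _).1 hepi s
  refine ⟨ηs (jW W) I U ŝ, ?_⟩
  have hO3 : B' ≤ (Opens.map (jW W)).obj (V ⊓ (U ⊓ U')) := by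
    intro z hz
    exact ⟨hWV z.2, h1 hz⟩
  have hO3' : (Opens.map (jW W)).obj (V ⊓ (U ⊓ U')) ≤ B' :=
    ((Opens.map (jW W)).monotone inf_le_right).trans h2
  apply eq_of_res_eq_of_le (pF (jW W) I) hO3' hO3
  have e1 := ηs_res (jW W) I hle ŝ
  have hŝ' : I.obj.map (homOfLE hle).op ŝ = s := hŝ
  rw [hŝ', hs, res_res] at e1
  rw [res_res, ← e1]

/-- **acyclicity**: the restriction of a flasque sheaf to a pro-open subset has no higher
cohomology on the opens `W ∩ U`, `U` quasi-compact open -/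
theorem ext_pF_eq_zero [SpectralSpace X] (hW : ProOpen W) [TopCat.Sheaf.IsFlasque I]
    (p : ℕ) (U : Opens X) (hU : IsCompact (U : Set X))
    (ξ : Ext (G ((Opens.map (jW W)).obj U)) (pF (jW W) I) (p + 1)) : ξ = 0 := by
  refine (cohData (pF (jW W) I)).eq_zero_of_basis (qcB W) ?_ ?_ ?_ ?_ ?_ ?_ p _ ⟨U, hU, rfl⟩ ξ
  · exact ⟨⊥, by simp, rfl⟩
  · intro O y hy
    obtain ⟨U₂, hU₂o, hU₂⟩ := isOpen_induced_iff.1 O.2
    have hy2 : y.1 ∈ U₂ := by
      have : y ∈ Subtype.val ⁻¹' U₂ := by rw [hU₂]; exact hy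
      exact this
    obtain ⟨A, hAc, hyA, hAle⟩ := exists_compact_open y.1 ⟨U₂, hU₂o⟩ hy2
    refine ⟨(Opens.map (jW W)).obj A, ⟨A, hAc, rfl⟩, hyA, ?_⟩
    intro z hz
    have h4 : z ∈ Subtype.val ⁻¹' U₂ := hAle hz
    rw [hU₂] at h4
    exact h4
  · rintro _ ⟨U₁, h₁, rfl⟩ _ ⟨U₂, h₂, rfl⟩
    exact ⟨U₁ ⊓ U₂, QuasiSeparatedSpace.inter_isCompact _ _ U₁.2 h₁ U₂.2 h₂, rfl⟩
  · rintro _ ⟨U₁, h₁, rfl⟩ _ ⟨U₂, h₂, rfl⟩
    exact ⟨U₁ ⊔ U₂, h₁.union h₂, by ext z; rfl⟩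
  · rintro _ ⟨U₁, h₁, rfl⟩
    exact isCompact_map_jW W hW U₁ h₁
  · rintro _ ⟨U₁, h₁, rfl⟩ _ ⟨U₂, h₂, rfl⟩ η
    exact ext0_surj_of_sections (pF (jW W) I) inf_le_left
      (pF_res_surjective W I hW U₁ U₂ h₁ h₂
        (B' := (Opens.map (jW W)).obj U₁ ⊓ (Opens.map (jW W)).obj U₂)
        (le_of_eq rfl) (le_of_eq rfl) inf_le_left) η

end Groth.Agent.Lib.Helper80.ProSec
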