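import Groth.Agent.Lib.Helper4.RpushDelta
import Groth.Agent.Lib.Helper33.DeltaPrecomp
import Groth.Agent.Lib.Helper80.Pro.PullAcyc
import Groth.Agent.Lib.Helper1.ShCohTop
import Groth.Agent.Lib.Helper28.ShCoh
import Groth.Agent.S0904

/-!
# Cohomology of a pro-open subset of a spectral space as a colimit (helper80)

For a quasi-compact subset `E` of a spectral space `X` with set of generalizations `W`:
`H^p(W, F|_W) ≅ colim H^p(U, F)`, the colimit over the quasi-compact open neighbourhoods of `E`,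
as an isomorphism of functors in `F` (comparison of two universal δ-functors).
-/

set_option autoImplicit false
universe u

open CategoryTheory CategoryTheory.Limits TopologicalSpace Opposite Set Abelian

namespace Groth.Agent.Lib.Helper80.ProSec

open Groth.Agent.Lib.Helper80.GV Groth.Agent.Lib.Helper80.PullSec Groth.Agent.Lib.Helper4

variable {X : TopCat.{u}} (E : Set X)

/-- the quasi-compact open neighbourhoods of `E` -/
abbrev nbP : ObjectProperty (Opens X)ᵒᵖ :=
  fun U => E ⊆ (U.unop : Set X) ∧ IsCompact (U.unop : Set X)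

instance (U V : (nbP E).FullSubcategory) : Subsingleton (U ⟶ V) :=
  ⟨fun f g => by
    apply ObjectProperty.hom_ext
    exact Subsingleton.elim _ _⟩

instance [SpectralSpace X] : IsFiltered (nbP E).FullSubcategory where
  cocone_objs U V := ⟨⟨op (U.obj.unop ⊓ V.obj.unop), ⟨subset_inter U.property.1 V.property.1,
      QuasiSeparatedSpace.inter_isCompact _ _ U.obj.unop.2 U.property.2 V.obj.unop.2 V.property.2⟩⟩,
    ObjectProperty.homMk (homOfLE inf_le_left).op, ObjectProperty.homMk (homOfLE inf_le_right).op,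
    trivial⟩
  cocone_maps U V f g := ⟨V, 𝟙 _, by rw [Subsingleton.elim f g]⟩
  nonempty := ⟨⟨op ⊤, ⟨subset_univ _, isCompact_univ⟩⟩⟩

/-- the colimit over the quasi-compact open neighbourhoods of `E` -/
noncomputable abbrev colimF : ((Opens X)ᵒᵖ ⥤ AddCommGrpCat.{u}) ⥤ AddCommGrpCat.{u} :=
  (Functor.whiskeringLeft _ _ _).obj (nbP E).ι ⋙ colim

/-- the set of generalizations of points of `E` -/
abbrev genSet : Set X := {x | ∃ e ∈ E, e ∈ closure {x}}

lemma subset_genSet : E ⊆ genSet E := fun e he => ⟨e, he, subset_closure rfl⟩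

lemma genSet_subset_of_isOpen {U : Set X} (hU : IsOpen U) (h : E ⊆ U) : genSet E ⊆ U := by
  rintro x ⟨e, he, hex⟩
  by_contra hx
  have h1 : closure {x} ⊆ Uᶜ :=
    closure_minimal (singleton_subset_iff.2 hx) hU.isClosed_compl
  exact h1 hex (h he)

lemma proOpen_genSet [SpectralSpace X] (hE : IsCompact E) : ProOpen (genSet E) := by
  intro x hx
  by_contra hcon
  push Not at hcon
  apply hx
  obtain ⟨e, he, hxe⟩ := exists_specializes_of_forall_mem hE x (fun V hVc hEV => by
    by_contra hxV
    exact hxV (hcon V hVc (genSet_subset_of_isOpen E V.2 hEV)))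
  exact ⟨e, he, hxe.mem_closure⟩

section Degree0

variable [SpectralSpace X] (F : CohTop.Ab X)

lemma top_le_map (U : (nbP E).FullSubcategory) :
    (⊤ : Opens (TopCat.of (genSet E))) ≤ (Opens.map (jW (genSet E))).obj U.obj.unop :=
  fun z _ => genSet_subset_of_isOpen E U.obj.unop.2 U.property.1 z.2

/-- `F(U) → (j⁻¹F)(W)` for a neighbourhood `U` of `E` -/
noncomputable def legFun (U : (nbP E).FullSubcategory) :
    F.obj.obj U.obj →+ (pF (jW (genSet E)) F).obj.obj (op ⊤) :=
  ((pF (jW (genSet E)) F).obj.map (homOfLE (top_le_map E U)).op).hom.comp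
    (ηs (jW (genSet E)) F U.obj.unop)

lemma legFun_apply (U : (nbP E).FullSubcategory) (s : F.obj.obj U.obj) :
    legFun E F U s = (pF (jW (genSet E)) F).obj.map (homOfLE (top_le_map E U)).op
      (ηs (jW (genSet E)) F U.obj.unop s) := rfl

lemma legFun_res {U V : (nbP E).FullSubcategory} (h : V.obj.unop ≤ U.obj.unop)
    (s : F.obj.obj U.obj) :
    legFun E F V (F.obj.map (homOfLE h).op s) = legFun E F U s := by
  rw [legFun_apply, legFun_apply]
  have h1 := ηs_res (jW (genSet E)) F h s
  rw [h1, res_res]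

/-- the cocone computing the comparison map in degree `0` -/
noncomputable def Φcocone : Cocone ((nbP E).ι ⋙ F.obj) where
  pt := (pF (jW (genSet E)) F).obj.obj (op ⊤)
  ι :=
    { app := fun U => AddCommGrpCat.ofHom (legFun E F U)
      naturality := fun U V f => by
        ext s
        have h : V.obj.unop ≤ U.obj.unop := leOfHom f.hom.unop
        exact legFun_res E F h s }

/-- the comparison map `colim F(U) → (j⁻¹F)(W)` -/
noncomputable def Φ : colimit ((nbP E).ι ⋙ F.obj) ⟶ (pF (jW (genSet E)) F).obj.obj (op ⊤) :=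
  colimit.desc _ (Φcocone E F)

lemma Φ_ι (U : (nbP E).FullSubcategory) (s : F.obj.obj U.obj) :
    (Φ E F).hom ((colimit.ι ((nbP E).ι ⋙ F.obj) U).hom s) = legFun E F U s :=
  ConcreteCategory.congr_hom (colimit.ι_desc (Φcocone E F) U) s

theorem Φ_bijective (hE : IsCompact E) : Function.Bijective (Φ E F).hom := by
  have hW := proOpen_genSet E hE
  constructor
  · rw [injective_iff_map_eq_zero]
    intro x hx
    obtain ⟨U, s, rfl⟩ := Concrete.colimit_exists_rep ((nbP E).ι ⋙ F.obj) x
    have hx' : legFun E F U s = 0 := (Φ_ι E F U s).symm.trans hx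
    rw [legFun_apply] at hx'
    have h0 : ηs (jW (genSet E)) F U.obj.unop s = 0 :=
      eq_of_res_eq_of_le (pF (jW (genSet E)) F) (top_le_map E U) le_top _ 0
        (hx'.trans (map_zero _).symm)
    obtain ⟨V, hVc, hWV, hs0⟩ := exists_res_eq_zero_of_ηs (genSet E) F hW U.obj.unop
      U.property.2 s h0
    let U' : (nbP E).FullSubcategory := ⟨op (V ⊓ U.obj.unop),
      ⟨subset_inter ((subset_genSet E).trans hWV) U.property.1,
        QuasiSeparatedSpace.inter_isCompact _ _ V.2 hVc U.obj.unop.2 U.property.2⟩⟩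
    let f : U ⟶ U' := ObjectProperty.homMk (homOfLE inf_le_right).op
    have hw := ConcreteCategory.congr_hom (colimit.w ((nbP E).ι ⋙ F.obj) f) s
    have hw' : (colimit.ι ((nbP E).ι ⋙ F.obj) U').hom
        (F.obj.map (homOfLE (inf_le_right : V ⊓ U.obj.unop ≤ U.obj.unop)).op s) =
        (colimit.ι ((nbP E).ι ⋙ F.obj) U).hom s := hw
    rw [← hw', hs0, map_zero]
  · intro t
    obtain ⟨V, hVc, hWV, s, hs⟩ := exists_ηs_eq (genSet E) F hW ⊤ isCompact_univ
      ((pF (jW (genSet E)) F).obj.map (homOfLE le_top).op t)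
    let U₀ : (nbP E).FullSubcategory := ⟨op (V ⊓ ⊤),
      ⟨subset_inter ((subset_genSet E).trans hWV) (subset_univ _),
        QuasiSeparatedSpace.inter_isCompact _ _ V.2 hVc isOpen_univ isCompact_univ⟩⟩
    refine ⟨(colimit.ι ((nbP E).ι ⋙ F.obj) U₀).hom s, ?_⟩
    rw [Φ_ι, legFun_apply]
    have hs' : ηs (jW (genSet E)) F U₀.obj.unop s = _ := hs
    rw [hs', res_res, res_res]
    exact res_refl _ t

variable {F} in
lemma legFun_nat {F' : CohTop.Ab X} (f : F ⟶ F') (U : (nbP E).FullSubcategory)
    (s : F.obj.obj U.obj) :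
    legFun E F' U ((f.hom.app U.obj).hom s) =
      (((CohTop.pull (jW (genSet E))).map f).hom.app (op ⊤)).hom (legFun E F U s) := by
  rw [legFun_apply, legFun_apply]
  have h1 := ηs_nat (jW (genSet E)) f U.obj.unop s
  rw [h1]
  exact (NatTrans.naturality_apply ((CohTop.pull (jW (genSet E))).map f).hom
    (homOfLE (top_le_map E U)).op _).symm

variable {F} in
lemma Φ_natural {F' : CohTop.Ab X} (f : F ⟶ F') :
    colimMap (Functor.whiskerLeft (nbP E).ι f.hom) ≫ Φ E F' =
      Φ E F ≫ ((CohTop.pull (jW (genSet E))).map f).hom.app (op ⊤) := by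
  apply colimit.hom_ext
  intro U
  ext s
  rw [ι_colimMap_assoc]
  change (Φ E F').hom ((colimit.ι ((nbP E).ι ⋙ F'.obj) U).hom ((f.hom.app U.obj).hom s)) =
    (((CohTop.pull (jW (genSet E))).map f).hom.app (op ⊤)).hom
      ((Φ E F).hom ((colimit.ι ((nbP E).ι ⋙ F.obj) U).hom s))
  rw [Φ_ι, Φ_ι, legFun_nat]

end Degree0

section Delta

open Groth.Agent.Lib.Helper4.DeltaFamily Groth.Agent.Lib.Helper4.RpushDelta
  Groth.Agent.Lib.Helper33.ExtDelta DeltaF

section PullInst

variable {Y Z : TopCat.{u}} (f : Y ⟶ Z)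

local instance : PreservesFiniteLimits (CohTop.pull f) :=
  Groth.Agent.S0904.preservesFiniteLimits_pull f

local instance : PreservesFiniteColimits (CohTop.pull f) := by
  have : PreservesColimitsOfSize.{0, 0} (CohTop.pull f) :=
    (TopCat.Sheaf.pullbackPushforwardAdjunction AddCommGrpCat.{u} f).leftAdjoint_preservesColimits
  exact PreservesColimitsOfSize.preservesFiniteColimits _

local instance : (CohTop.pull f).Additive :=
  @Adjunction.left_adjoint_additive _ _ _ _ _ _ _ _
    (TopCat.Sheaf.pullbackPushforwardAdjunction AddCommGrpCat.{u} f)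
    (inferInstanceAs ((CohTop.push f).Additive))

/-- the δ-functor `F ↦ H^n(Y, f⁻¹F)` -/
noncomputable def pullDelta : CohDeltaFunctor (CohTop.Ab Z) AddCommGrpCat.{u} ℕ :=
  precompDelta (CohTop.pull f) (extDelta.{u}
    ((constantSheaf (Opens.grothendieckTopology Y) AddCommGrpCat.{u}).obj
      (AddCommGrpCat.of (ULift.{u} ℤ))))

/-- global sections -/
noncomputable abbrev Γtop : CohTop.Ab Y ⥤ AddCommGrpCat.{u} :=
  sheafToPresheaf _ _ ⋙ (evaluation _ _).obj (op ⊤)

/-- `H^0(Y, -) ≅ Γ(Y, -)` -/
noncomputable def extZeroIsoΓ :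
    (extFunctor.{u} 0).obj (op ((constantSheaf (Opens.grothendieckTopology Y) AddCommGrpCat.{u}).obj
      (AddCommGrpCat.of (ULift.{u} ℤ)))) ≅ Γtop (Y := Y) :=
  NatIso.ofComponents
    (fun G => (Sheaf.H.equiv₀ G (Limits.isTerminalTop (α := Opens Y))).toAddCommGrpIso)
    (fun {G G'} g => by
      ext x
      exact (Sheaf.H.equiv₀_naturality (Limits.isTerminalTop (α := Opens Y)) g x).symm)

end PullInst

variable [SpectralSpace X]

/-- the δ-functor `F ↦ colim_U H^n(U, F)` -/
noncomputable def colimDelta : CohDeltaFunctor (CohTop.Ab X) AddCommGrpCat.{u} ℕ :=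
  postcompExact (colimF E) (extFamilyDelta.{u} (Zfun (Opens.grothendieckTopology X)))

lemma colimDelta_isUniversal : (colimDelta E).IsUniversal := by
  apply Groth.Agent.S6773.result
  rw [Groth.Agent.S14349.result]
  intro n I hI
  have h : IsZero ((extFamily.{u} (Zfun (Opens.grothendieckTopology X)) (n + 1)).obj I) := by
    rw [Functor.isZero_iff]
    intro U
    have : Subsingleton (Ext.{u} ((Zfun (Opens.grothendieckTopology X)).obj U.unop) I (n + 1)) :=
      subsingleton_of_forall_eq 0 (fun x => Ext.eq_zero_of_injective x)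
    exact AddCommGrpCat.isZero_of_subsingleton
      (AddCommGrpCat.of (Ext.{u} ((Zfun (Opens.grothendieckTopology X)).obj U.unop) I (n + 1)))
  exact (colimF E).map_isZero h

lemma pullDelta_isUniversal (hE : IsCompact E) :
    (pullDelta (jW (genSet E))).IsUniversal := by
  apply Groth.Agent.S6773.result
  rw [Groth.Agent.S14349.result]
  intro n I hI
  have hW := proOpen_genSet E hE
  have hfl : TopCat.Sheaf.IsFlasque I := Groth.Agent.Lib.Helper28.ShCoh.isFlasque_of_injective I
  have h1 : Subsingleton (CohTop.HU (pF (jW (genSet E)) I) (n + 1) ⊤) :=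
    ⟨fun a b => (ext_pF_eq_zero (genSet E) I hW n ⊤ isCompact_univ a).trans
      (ext_pF_eq_zero (genSet E) I hW n ⊤ isCompact_univ b).symm⟩
  have h2 : Subsingleton (CohTop.H (pF (jW (genSet E)) I) (n + 1)) :=
    (Groth.Agent.Lib.Helper1.HUTopEquivH (pF (jW (genSet E)) I) (n + 1)).symm.toEquiv.subsingleton
  exact AddCommGrpCat.isZero_of_subsingleton
    (AddCommGrpCat.of (CohTop.H (pF (jW (genSet E)) I) (n + 1)))

/-- the comparison in degree `0`, as a natural isomorphism -/
noncomputable def sectionsIso (hE : IsCompact E) :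
    sheafToPresheaf (Opens.grothendieckTopology X) AddCommGrpCat.{u} ⋙ colimF E ≅
      CohTop.pull (jW (genSet E)) ⋙ Γtop :=
  NatIso.ofComponents
    (fun F =>
      haveI : IsIso (Φ E F) := (ConcreteCategory.isIso_iff_bijective _).2 (Φ_bijective E F hE)
      asIso (Φ E F))
    (fun {F F'} f => Φ_natural E f)

theorem nonempty_zeroIso (hE : IsCompact E) :
    Nonempty ((colimDelta E).F 0 ≅ (pullDelta (jW (genSet E))).F 0) := by
  obtain ⟨z⟩ := nonempty_zeroNatIso (Opens.grothendieckTopology X)
  exact ⟨Functor.isoWhiskerRight z (colimF E) ≪≫ sectionsIso E hE ≪≫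
    (Functor.isoWhiskerLeft (CohTop.pull (jW (genSet E))) extZeroIsoΓ).symm⟩

/-- **`colim_U H^p(U, F) ≅ H^p(W, F|_W)`**, as functors of `F` -/
theorem nonempty_colim_iso (hE : IsCompact E) (p : ℕ) :
    Nonempty ((colimDelta E).F p ≅ (pullDelta (jW (genSet E))).F p) := by
  obtain ⟨e⟩ := nonempty_zeroIso E hE
  exact nonempty_iso_of_isUniversal _ _ (colimDelta_isUniversal E) (pullDelta_isUniversal E hE) e p

end Delta

end Groth.Agent.Lib.Helper80.ProSec
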