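import Groth.Agent.Lib.Helper80.Pro.PullSec
import Groth.Agent.Lib.Helper80.GV.SpecTop
import Groth.Agent.Lib.Helper80.GV.Core

/-!
# Sections of the restriction of a sheaf to a pro-open subset of a spectral space (helper80)

Let `W` be an intersection of quasi-compact opens of a spectral space `X`, `j : W → X` the inclusion
and `F` an abelian sheaf on `X`.  For a quasi-compact open `U` of `X`:
* `exists_res_eq_zero_of_ηs`: a section of `F` over `U` which dies in `j⁻¹F (W ∩ U)` dies on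
  `V ∩ U` for some quasi-compact open neighbourhood `V` of `W`;
* `exists_ηs_eq`: every section of `j⁻¹ F` over `W ∩ U` comes from a section of `F` over `V ∩ U`
  for some quasi-compact open neighbourhood `V` of `W`.
-/

set_option autoImplicit false
universe u

open CategoryTheory CategoryTheory.Limits TopologicalSpace Opposite Set

namespace Groth.Agent.Lib.Helper80.ProSec

open Groth.Agent.Lib.Helper80.GV Groth.Agent.Lib.Helper80.PullSec

variable {X : TopCat.{u}} (W : Set X)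

/-- the inclusion of a subspace -/
noncomputable abbrev jW : TopCat.of W ⟶ X := TopCat.ofHom ⟨Subtype.val, continuous_subtype_val⟩

variable (F : CohTop.Ab X)

/-- a section over a quasi-compact open `U` which dies on `W ∩ U` dies near `W` -/
theorem exists_res_eq_zero_of_ηs [SpectralSpace X] (hW : ProOpen W) (U : Opens X)
    (hU : IsCompact (U : Set X)) (s : F.obj.obj (op U)) (h : ηs (jW W) F U s = 0) :
    ∃ V : Opens X, IsCompact (V : Set X) ∧ W ⊆ V ∧
      F.obj.map (homOfLE (inf_le_right : V ⊓ U ≤ U)).op s = 0 := by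
  let N : Set X := {x | ∃ (U' : Opens X) (h' : U' ≤ U), x ∈ U' ∧ F.obj.map (homOfLE h').op s = 0}
  have hN : IsOpen N := by
    rw [isOpen_iff_forall_mem_open]
    rintro x ⟨U', h', hx, e⟩
    exact ⟨U', fun z hz => ⟨U', h', hz, e⟩, U'.2, hx⟩
  have hWN : W ∩ U ⊆ N := by
    rintro x ⟨hxW, hxU⟩
    obtain ⟨U', h', hx', e⟩ := exists_res_eq_zero (jW W) F U s ⟨x, hxW⟩
      ((Opens.map (jW W)).obj U) le_rfl hxU (by rw [h, map_zero])
    exact ⟨U', h', hx', e⟩
  obtain ⟨V, hVc, hWV, hVN⟩ := hW.exists_between_inter U hU N hN hWN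
  refine ⟨V, hVc, hWV, ?_⟩
  apply TopCat.Presheaf.section_ext (F := (F : TopCat.Sheaf AddCommGrpCat.{u} X)) (V ⊓ U)
  intro x hx
  obtain ⟨U', h', hxU', e⟩ := hVN ⟨hx.1, hx.2⟩
  change gm F (V ⊓ U) x hx _ = gm F (V ⊓ U) x hx 0
  rw [gm_res F inf_le_right x hx s, ← gm_res F h' x hxU' s, e, map_zero, map_zero]

/-- a section of `j⁻¹ F` over `W ∩ U` is induced, near any point, by a section of `F` over a
quasi-compact open -/
theorem exists_qc_rep [PrespectralSpace X] (U : Opens X)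
    (t : (pF (jW W) F).obj.obj (op ((Opens.map (jW W)).obj U))) (y : W) (hy : y.1 ∈ U) :
    ∃ (A : Opens X) (hA : A ≤ U), IsCompact (A : Set X) ∧ y.1 ∈ A ∧ ∃ a : F.obj.obj (op A),
      ηs (jW W) F A a =
        (pF (jW W) F).obj.map (homOfLE ((Opens.map (jW W)).monotone hA)).op t := by
  obtain ⟨U₁, hU₁, s, O', h1, h2, hyO', e⟩ := exists_local_rep (jW W) F _ t y hy
  obtain ⟨U₂, hU₂o, hU₂⟩ := isOpen_induced_iff.1 O'.2
  have hy2 : y.1 ∈ U₂ := by
    have : y ∈ Subtype.val ⁻¹' U₂ := by rw [hU₂]; exact hyO'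
    exact this
  obtain ⟨A, hAc, hyA, hAle⟩ := exists_compact_open y.1 (U₁ ⊓ ⟨U₂, hU₂o⟩ ⊓ U) ⟨⟨hU₁, hy2⟩, hy⟩
  have hA1 : A ≤ U₁ := hAle.trans (inf_le_left.trans inf_le_left)
  have hAU : A ≤ U := hAle.trans inf_le_right
  have hAO' : (Opens.map (jW W)).obj A ≤ O' := by
    intro z hz
    have h3 : z.1 ∈ U₂ := (hAle hz).1.2
    have h4 : z ∈ Subtype.val ⁻¹' U₂ := h3
    rw [hU₂] at h4
    exact h4
  refine ⟨A, hAU, hAc, hyA, F.obj.map (homOfLE hA1).op s, ?_⟩
  rw [ηs_res, ← res_res (pF (jW W) F) h2 hAO', e, res_res]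

lemma isCompact_finset_inf [SpectralSpace X] {κ : Type*} (t : Finset κ) (V : κ → Opens X)
    (hV : ∀ k ∈ t, IsCompact (V k : Set X) ∧ W ⊆ V k) :
    IsCompact ((t.inf V : Opens X) : Set X) ∧ W ⊆ (t.inf V : Opens X) := by
  refine Finset.inf_induction (p := fun V' : Opens X => IsCompact (V' : Set X) ∧ W ⊆ V') ?_ ?_ hV
  · exact ⟨by simpa using isCompact_univ, by simp⟩
  · rintro V₁ ⟨h1, h1'⟩ V₂ ⟨h2, h2'⟩
    exact ⟨QuasiSeparatedSpace.inter_isCompact _ _ V₁.2 h1 V₂.2 h2, subset_inter h1' h2'⟩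

/-- every section of `j⁻¹ F` over `W ∩ U` is induced by a section of `F` near `W` -/
theorem exists_ηs_eq [SpectralSpace X] (hW : ProOpen W) (U : Opens X)
    (hU : IsCompact (U : Set X))
    (t : (pF (jW W) F).obj.obj (op ((Opens.map (jW W)).obj U))) :
    ∃ (V : Opens X), IsCompact (V : Set X) ∧ W ⊆ V ∧ ∃ s : F.obj.obj (op (V ⊓ U)),
      ηs (jW W) F (V ⊓ U) s =
        (pF (jW W) F).obj.map
          (homOfLE ((Opens.map (jW W)).monotone (inf_le_right : V ⊓ U ≤ U))).op t := by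
  classical
  -- local representatives
  have hrep : ∀ y : {y : W // y.1 ∈ U}, ∃ (A : Opens X) (hA : A ≤ U), IsCompact (A : Set X) ∧
      y.1.1 ∈ A ∧ ∃ a : F.obj.obj (op A), ηs (jW W) F A a =
        (pF (jW W) F).obj.map (homOfLE ((Opens.map (jW W)).monotone hA)).op t :=
    fun y => exists_qc_rep W F U t y.1 y.2
  choose A hA hAc hyA a ha using hrep
  -- finitely many suffice
  have hcov : W ∩ U ⊆ ⋃ y, (A y : Set X) := by
    rintro x ⟨hxW, hxU⟩
    exact mem_iUnion.2 ⟨⟨⟨x, hxW⟩, hxU⟩, hyA _⟩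
  obtain ⟨T, hT⟩ := (hW.inter_opens U hU).isCompact.elim_finite_subcover (fun y => (A y : Set X))
    (fun y => (A y).2) hcov
  obtain ⟨V₀, hV₀c, hWV₀, hV₀⟩ := hW.exists_between_inter U hU (⋃ y ∈ T, (A y : Set X))
    (isOpen_biUnion fun y _ => (A y).2) hT
  -- agreement on overlaps
  have hagree : ∀ p : {y : W // y.1 ∈ U} × {y : W // y.1 ∈ U}, ∃ V : Opens X,
      IsCompact (V : Set X) ∧ W ⊆ V ∧
      F.obj.map (homOfLE (inf_le_right : V ⊓ (A p.1 ⊓ A p.2) ≤ A p.1 ⊓ A p.2)).op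
        (F.obj.map (homOfLE (inf_le_left : A p.1 ⊓ A p.2 ≤ A p.1)).op (a p.1) -
          F.obj.map (homOfLE (inf_le_right : A p.1 ⊓ A p.2 ≤ A p.2)).op (a p.2)) = 0 := by
    intro p
    apply exists_res_eq_zero_of_ηs W F hW (A p.1 ⊓ A p.2)
      (QuasiSeparatedSpace.inter_isCompact _ _ (A p.1).2 (hAc p.1) (A p.2).2 (hAc p.2))
    rw [map_sub, ηs_res, ηs_res, ha, ha, res_res, res_res, sub_self]
  choose Vp hVpc hWVp hVp using hagree
  let V : Opens X := V₀ ⊓ (T ×ˢ T).inf Vp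
  have hVinf := isCompact_finset_inf W (T ×ˢ T) Vp (fun p _ => ⟨hVpc p, hWVp p⟩)
  have hVc : IsCompact (V : Set X) :=
    QuasiSeparatedSpace.inter_isCompact _ _ V₀.2 hV₀c ((T ×ˢ T).inf Vp).2 hVinf.1
  have hWV : W ⊆ V := subset_inter hWV₀ hVinf.2
  refine ⟨V, hVc, hWV, ?_⟩
  -- glue
  let Uf : T → Opens X := fun i => V ⊓ A i.1
  let sf : ∀ i : T, F.obj.obj (op (Uf i)) := fun i =>
    F.obj.map (homOfLE (inf_le_right : V ⊓ A i.1 ≤ A i.1)).op (a i.1)
  have hcompat : TopCat.Presheaf.IsCompatible F.obj Uf sf := by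
    intro i k
    have hle : Uf i ⊓ Uf k ≤ Vp (i.1, k.1) ⊓ (A i.1 ⊓ A k.1) := by
      intro x hx
      refine ⟨?_, hx.1.2, hx.2.2⟩
      have h1 : x ∈ (T ×ˢ T).inf Vp := hx.1.1.2
      exact (Finset.inf_le (f := Vp) (Finset.mk_mem_product i.2 k.2) : _ ≤ Vp (i.1, k.1)) h1
    have h0 := congrArg (F.obj.map (homOfLE hle).op) (hVp (i.1, k.1))
    rw [map_zero, res_res, map_sub, res_res, res_res, sub_eq_zero] at h0
    change F.obj.map (homOfLE _).op (F.obj.map (homOfLE _).op (a i.1)) =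
      F.obj.map (homOfLE _).op (F.obj.map (homOfLE _).op (a k.1))
    rw [res_res, res_res]
    exact h0
  have hcover : V ⊓ U ≤ iSup Uf := by
    intro x hx
    have h1 : x ∈ ⋃ y ∈ T, (A y : Set X) := hV₀ ⟨hx.1.1, hx.2⟩
    obtain ⟨y, hy⟩ := mem_iUnion.1 h1
    obtain ⟨hyT, hxy⟩ := mem_iUnion.1 hy
    exact Opens.mem_iSup.2 ⟨⟨y, hyT⟩, hx.1, hxy⟩
  obtain ⟨s, hs, -⟩ := TopCat.Sheaf.existsUnique_gluing' (F : TopCat.Sheaf AddCommGrpCat.{u} X)
    Uf (V ⊓ U) (fun i => homOfLE (inf_le_inf_left V (hA i.1))) hcover sf hcompat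
  refine ⟨s, ?_⟩
  apply TopCat.Sheaf.eq_of_locally_eq' (pF (jW W) F : TopCat.Sheaf AddCommGrpCat.{u} (TopCat.of W))
    (fun i : T => (Opens.map (jW W)).obj (Uf i)) ((Opens.map (jW W)).obj (V ⊓ U))
    (fun i => homOfLE ((Opens.map (jW W)).monotone (inf_le_inf_left V (hA i.1))))
  · intro z hz
    obtain ⟨i, hi⟩ := Opens.mem_iSup.1 (hcover hz)
    exact Opens.mem_iSup.2 ⟨i, hi⟩
  · intro i
    have h1 := ηs_res (jW W) F (inf_le_inf_left V (hA i.1)) s
    have h2 : F.obj.map (homOfLE (inf_le_inf_left V (hA i.1))).op s = sf i := hs i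
    rw [h2] at h1
    change (pF (jW W) F).obj.map (homOfLE _).op (ηs (jW W) F (V ⊓ U) s) =
      (pF (jW W) F).obj.map (homOfLE _).op ((pF (jW W) F).obj.map (homOfLE _).op t)
    rw [← h1, ηs_res, ha, res_res, res_res]

end Groth.Agent.Lib.Helper80.ProSec
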