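import Groth.Agent.Lib.Helper19.QuasiHomeo
import Groth.Agent.Lib.Helper80.GV.FreeStalk
import Groth.Prelude.Def_CohTop

/-!
# Sections of the inverse image sheaf, via stalks (helper80)

For a continuous map `j : Y ⟶ X` and an abelian sheaf `F` on `X`: the unit `F ⟶ j_* j⁻¹ F` on
sections (`ηs`), its compatibility with the identification of stalks `(j⁻¹F)_y ≅ F_{j y}`
(`germ_η`, `sI_gm_ηs`), and the two consequences used to compute sections of `j⁻¹ F`:
every section of `j⁻¹ F` is locally of the form `ηs U s` (`exists_local_rep`), and `ηs U s`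
vanishes near `y` only if `s` vanishes near `j y` (`exists_res_eq_zero`).
-/

set_option autoImplicit false
universe u

open CategoryTheory CategoryTheory.Limits TopologicalSpace Opposite

namespace Groth.Agent.Lib.Helper80.PullSec

open Groth.Agent.Helper19.QuasiHomeo Groth.Agent.Lib.Helper80.GV

section Sky

open Classical in
theorem unit_app_eq {Z : TopCat.{u}} (z : Z) (G : TopCat.Sheaf AddCommGrpCat.{u} Z) (O : Opens Z)
    (hz : z ∈ O) :
    ((stalkSkyscraperSheafAdjunction (C := AddCommGrpCat.{u}) z).unit.app G).hom.app (op O) ≫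
      eqToHom (if_pos hz) = TopCat.Presheaf.germ G.obj O z hz := by
  change (StalkSkyscraperPresheafAdjunctionAuxs.toSkyscraperPresheaf z (𝟙 _)).app (op O) ≫ _ = _
  rw [StalkSkyscraperPresheafAdjunctionAuxs.toSkyscraperPresheaf_app]
  have hz' : z ∈ unop (op O) := hz
  rw [dif_pos hz']
  rw [Category.id_comp, Category.assoc]
  erw [eqToHom_trans]
  erw [eqToHom_refl, Category.comp_id]
  rfl

open Classical in
theorem sky_map_app_eq {Z : TopCat.{u}} (z : Z) {A B : AddCommGrpCat.{u}} (φ : A ⟶ B)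
    (O : Opens Z) (hz : z ∈ O) :
    ((skyscraperSheafFunctor (C := AddCommGrpCat.{u}) z).map φ).hom.app (op O) ≫
      eqToHom (if_pos hz) = eqToHom (if_pos hz) ≫ φ := by
  change (SkyscraperPresheafFunctor.map' z φ).app (op O) ≫ _ = _
  rw [SkyscraperPresheafFunctor.map'_app]
  have hz' : z ∈ unop (op O) := hz
  rw [dif_pos hz']
  rw [Category.assoc, Category.assoc]
  erw [eqToHom_trans]
  erw [eqToHom_refl, Category.comp_id]
  rfl

end Sky

variable {Y X : TopCat.{u}} (j : Y ⟶ X)

section

variable (F : TopCat.Sheaf AddCommGrpCat.{u} X)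

/-- the unit `F ⟶ j_* j⁻¹ F` -/
noncomputable abbrev η : F ⟶ (CohTop.push j).obj ((CohTop.pull j).obj F) :=
  (TopCat.Sheaf.pullbackPushforwardAdjunction AddCommGrpCat.{u} j).unit.app F

open Classical in
/-- the unit is compatible with germs and the identification of the stalks of `j⁻¹ F` -/
theorem germ_η (y : Y) (U : Opens X) (hy : j y ∈ U) :
    (η j F).hom.app (op U) ≫
      TopCat.Presheaf.germ ((CohTop.pull j).obj F).obj ((Opens.map j).obj U) y hy ≫
        (pullbackStalkIso (A := AddCommGrpCat.{u}) j y).hom.app F =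
    TopCat.Presheaf.germ F.obj U (j y) hy := by
  have h := Adjunction.unit_leftAdjointUniq_hom_app
    ((TopCat.Sheaf.pullbackPushforwardAdjunction AddCommGrpCat.{u} j).comp
      (stalkSkyscraperSheafAdjunction (C := AddCommGrpCat.{u}) y))
    ((stalkSkyscraperSheafAdjunction (C := AddCommGrpCat.{u}) (j y)).ofNatIsoRight
      (skyPush (A := AddCommGrpCat.{u}) j y).symm) F
  rw [Adjunction.comp_unit_app] at h
  have h2 := congrArg (fun φ => φ.hom.app (op U) ≫ eqToHom (if_pos hy)) h
  dsimp only at h2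
  have e1 := unit_app_eq y ((CohTop.pull j).obj F) ((Opens.map j).obj U) hy
  have e2 := sky_map_app_eq y ((pullbackStalkIso (A := AddCommGrpCat.{u}) j y).hom.app F)
    ((Opens.map j).obj U) hy
  have e3 := unit_app_eq (j y) F U hy
  have h3 : (η j F).hom.app (op U) ≫
      ((stalkSkyscraperSheafAdjunction (C := AddCommGrpCat.{u}) y).unit.app
        ((CohTop.pull j).obj F)).hom.app (op ((Opens.map j).obj U)) ≫
      ((skyscraperSheafFunctor (C := AddCommGrpCat.{u}) y).map
        ((pullbackStalkIso (A := AddCommGrpCat.{u}) j y).hom.app F)).hom.app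
          (op ((Opens.map j).obj U)) ≫ eqToHom (if_pos hy) =
      ((stalkSkyscraperSheafAdjunction (C := AddCommGrpCat.{u}) (j y)).unit.app F).hom.app (op U) ≫
        eqToHom (if_pos hy) := by
    refine Eq.trans ?_ (h2.trans ?_)
    · rw [← Category.assoc, ← Category.assoc]
      rfl
    · congr 1
  refine Eq.trans ?_ (h3.trans e3)
  refine congrArg (fun t => (η j F).hom.app (op U) ≫ t) ?_
  exact (congrArg (fun t => t ≫ (pullbackStalkIso (A := AddCommGrpCat.{u}) j y).hom.app F)
    e1.symm).trans ((Category.assoc _ _ _).trans (congrArg (fun t => _ ≫ t) e2.symm))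

end

variable (F : CohTop.Ab X)

/-- the inverse image sheaf -/
noncomputable abbrev pF : CohTop.Ab Y := (CohTop.pull j).obj F

/-- the unit on sections -/
noncomputable def ηs (U : Opens X) :
    F.obj.obj (op U) →+ (pF j F).obj.obj (op ((Opens.map j).obj U)) :=
  ((η j F).hom.app (op U)).hom

lemma ηs_res {U V : Opens X} (h : V ≤ U) (s : F.obj.obj (op U)) :
    ηs j F V (F.obj.map (homOfLE h).op s) =
      (pF j F).obj.map (homOfLE ((Opens.map j).monotone h)).op (ηs j F U s) :=
  NatTrans.naturality_apply (η j F).hom (homOfLE h).op s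

lemma ηs_nat {F F' : CohTop.Ab X} (f : F ⟶ F') (U : Opens X) (s : F.obj.obj (op U)) :
    ηs j F' U ((f.hom.app (op U)).hom s) =
      ((((CohTop.pull j).map f).hom.app (op ((Opens.map j).obj U))).hom) (ηs j F U s) := by
  have h := (TopCat.Sheaf.pullbackPushforwardAdjunction AddCommGrpCat.{u} j).unit.naturality f
  have h2 := congrArg (fun φ => (φ.hom.app (op U)).hom s) h
  exact h2

/-- the identification of stalks `(j⁻¹F)_y ≃ F_{j y}` -/
noncomputable def sI (y : Y) : (St y).obj (pF j F) ≃+ (St (j y)).obj F :=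
  (((pullbackStalkIso (A := AddCommGrpCat.{u}) j y).app F).addCommGroupIsoToAddEquiv)

lemma sI_gm_ηs (y : Y) (U : Opens X) (hy : j y ∈ U) (s : F.obj.obj (op U)) :
    sI j F y (gm (pF j F) ((Opens.map j).obj U) y hy (ηs j F U s)) = gm F U (j y) hy s :=
  ConcreteCategory.congr_hom (germ_η j F y U hy) s

/-- every section of `j⁻¹ F` is locally induced by a section of `F` -/
theorem exists_local_rep (O : Opens Y) (t : (pF j F).obj.obj (op O)) (y : Y) (hy : y ∈ O) :
    ∃ (U : Opens X) (_ : j y ∈ U) (s : F.obj.obj (op U)) (O' : Opens Y) (h1 : O' ≤ O)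
      (h2 : O' ≤ (Opens.map j).obj U), y ∈ O' ∧
      (pF j F).obj.map (homOfLE h2).op (ηs j F U s) = (pF j F).obj.map (homOfLE h1).op t := by
  obtain ⟨U, hU, s, hs⟩ := gm_surj F (j y) (sI j F y (gm (pF j F) O y hy t))
  rw [← sI_gm_ηs j F y U hU s] at hs
  have hs' := (sI j F y).injective hs
  obtain ⟨O', hyO', i1, i2, e⟩ := TopCat.Presheaf.germ_eq (pF j F).obj y hU hy _ _ hs'
  exact ⟨U, hU, s, O', i2.le, i1.le, hyO', e⟩

/-- if `ηs U s` vanishes near `y` then `s` vanishes near `j y` -/
theorem exists_res_eq_zero (U : Opens X) (s : F.obj.obj (op U)) (y : Y)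
    (O : Opens Y) (hO : O ≤ (Opens.map j).obj U) (hyO : y ∈ O)
    (h0 : (pF j F).obj.map (homOfLE hO).op (ηs j F U s) = 0) :
    ∃ (U' : Opens X) (h : U' ≤ U), j y ∈ U' ∧ F.obj.map (homOfLE h).op s = 0 := by
  have hy : j y ∈ U := hO hyO
  have h1 : gm F U (j y) hy s = gm F U (j y) hy 0 := by
    rw [← sI_gm_ηs j F y U hy s, ← gm_res (pF j F) hO y hyO, h0, map_zero, map_zero, map_zero]
  obtain ⟨U', hU', hyU', e⟩ := gm_eq F (j y) hy s 0 h1
  refine ⟨U', hU', hyU', ?_⟩
  rw [e, map_zero]

end Groth.Agent.Lib.Helper80.PullSec
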