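import Groth.Agent.Lib.Helper80.Pro.GenColim
import Groth.Agent.Lib.Helper5.HZshRestrict

/-!
# Stalks of higher direct images along a spectral map (helper80)

For a spectral map `f : X ⟶ Y` of spectral spaces and `y : Y`: `(R^p f_* F)_y ≅ H^p(W, F|_W)`
where `W = {x | y ∈ closure {f x}}`, as an isomorphism of functors in `F`.
-/

set_option autoImplicit false
universe u

open CategoryTheory CategoryTheory.Limits TopologicalSpace Opposite Set Abelian

namespace Groth.Agent.Lib.Helper80.ProSec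

open Groth.Agent.Lib.Helper80.GV Groth.Agent.Lib.Helper80.PullSec Groth.Agent.Lib.Helper4

variable {X Y : TopCat.{u}} (f : X ⟶ Y) (y : Y)

/-- the points of `X` whose image specializes to `y` -/
abbrev fibGen : Set X := {x | y ∈ closure {f x}}

lemma fibGen_subset_map (V : Opens Y) (hy : y ∈ V) :
    fibGen f y ⊆ ((Opens.map f).obj V : Opens X) := by
  intro x hx
  by_contra hxV
  have h1 : closure {f x} ⊆ (V : Set Y)ᶜ :=
    closure_minimal (singleton_subset_iff.2 hxV) V.2.isClosed_compl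
  exact h1 hx hy

lemma mem_fibGen_of_forall [PrespectralSpace Y] (x : X)
    (h : ∀ V : Opens Y, IsCompact (V : Set Y) → y ∈ V → f x ∈ V) : x ∈ fibGen f y := by
  by_contra hx
  have hy : y ∈ (⟨(closure {f x})ᶜ, isClosed_closure.isOpen_compl⟩ : Opens Y) := hx
  obtain ⟨V, hVc, hyV, hV⟩ := exists_compact_open y _ hy
  exact hV (h V hVc hyV) (subset_closure rfl)

lemma proOpen_fibGen [PrespectralSpace Y] (hf : IsSpectralMap f) : ProOpen (fibGen f y) := by
  intro x hx
  by_contra hcon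
  push Not at hcon
  apply hx
  apply mem_fibGen_of_forall
  intro V hVc hyV
  exact hcon ((Opens.map f).obj V) (hf.isCompact_preimage_of_isOpen V.2 hVc)
    (fibGen_subset_map f y V hyV)

lemma exists_nhd_map_le [SpectralSpace X] [SpectralSpace Y] (hf : IsSpectralMap f)
    (V' : Opens X) (h : fibGen f y ⊆ V') :
    ∃ V : Opens Y, IsCompact (V : Set Y) ∧ y ∈ V ∧ (Opens.map f).obj V ≤ V' := by
  obtain ⟨V'', ⟨V, hVc, hyV, rfl⟩, hV⟩ := exists_le_of_iInter_subset
    {V'' : Opens X | ∃ V : Opens Y, IsCompact (V : Set Y) ∧ y ∈ V ∧ V'' = (Opens.map f).obj V}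
    ⟨(Opens.map f).obj ⊤, ⊤, isCompact_univ, trivial, rfl⟩
    (by
      rintro _ ⟨V, hVc, _, rfl⟩
      exact hf.isCompact_preimage_of_isOpen V.2 hVc)
    (by
      rintro _ ⟨V₁, h₁c, h₁y, rfl⟩ _ ⟨V₂, h₂c, h₂y, rfl⟩
      exact ⟨V₁ ⊓ V₂, QuasiSeparatedSpace.inter_isCompact _ _ V₁.2 h₁c V₂.2 h₂c, ⟨h₁y, h₂y⟩, rfl⟩)
    V' V'.2 (by
      intro x hx
      rw [Set.mem_iInter₂] at hx
      apply h
      apply mem_fibGen_of_forall
      intro V hVc hyV
      exact hx ((Opens.map f).obj V) ⟨V, hVc, hyV, rfl⟩)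
  exact ⟨V, hVc, hyV, hV⟩

section Degree0

variable (F : CohTop.Ab X)

/-- `F(f⁻¹V) → (j⁻¹F)(W)` for a neighbourhood `V` of `y` -/
noncomputable def legFun' (V : Opens Y) (hy : y ∈ V) :
    F.obj.obj (op ((Opens.map f).obj V)) →+ (pF (jW (fibGen f y)) F).obj.obj (op ⊤) :=
  ((pF (jW (fibGen f y)) F).obj.map (homOfLE (fun z _ => fibGen_subset_map f y V hy z.2 :
      (⊤ : Opens (TopCat.of (fibGen f y))) ≤
        (Opens.map (jW (fibGen f y))).obj ((Opens.map f).obj V))).op).hom.comp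
    (ηs (jW (fibGen f y)) F ((Opens.map f).obj V))

lemma legFun'_apply (V : Opens Y) (hy : y ∈ V) (s : F.obj.obj (op ((Opens.map f).obj V))) :
    legFun' f y F V hy s = (pF (jW (fibGen f y)) F).obj.map
      (homOfLE (fun z _ => fibGen_subset_map f y V hy z.2 :
        (⊤ : Opens (TopCat.of (fibGen f y))) ≤
          (Opens.map (jW (fibGen f y))).obj ((Opens.map f).obj V))).op
      (ηs (jW (fibGen f y)) F ((Opens.map f).obj V) s) := rfl

lemma legFun'_res {V V' : Opens Y} (h : V' ≤ V) (hy : y ∈ V')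
    (s : F.obj.obj (op ((Opens.map f).obj V))) :
    legFun' f y F V' hy (F.obj.map (homOfLE ((Opens.map f).monotone h)).op s) =
      legFun' f y F V (h hy) s := by
  rw [legFun'_apply, legFun'_apply]
  have h1 := ηs_res (jW (fibGen f y)) F ((Opens.map f).monotone h) s
  rw [h1, res_res]

/-- the cocone computing the comparison map in degree `0` -/
noncomputable def Ψcocone :
    Cocone ((OpenNhds.inclusion y).op ⋙ ((CohTop.push f).obj F).obj) where
  pt := (pF (jW (fibGen f y)) F).obj.obj (op ⊤)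
  ι :=
    { app := fun V => AddCommGrpCat.ofHom (legFun' f y F V.unop.1 V.unop.2)
      naturality := fun V V' g => by
        ext s
        have h : V'.unop.1 ≤ V.unop.1 := leOfHom g.unop
        exact legFun'_res f y F h V'.unop.2 s }

/-- the comparison map `(f_*F)_y → (j⁻¹F)(W)` -/
noncomputable def Ψ : (St y).obj ((CohTop.push f).obj F) ⟶
    (pF (jW (fibGen f y)) F).obj.obj (op ⊤) :=
  colimit.desc ((OpenNhds.inclusion y).op ⋙ ((CohTop.push f).obj F).obj) (Ψcocone f y F)

lemma Ψ_gm (V : Opens Y) (hy : y ∈ V) (s : F.obj.obj (op ((Opens.map f).obj V))) :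
    (Ψ f y F).hom (gm ((CohTop.push f).obj F) V y hy s) = legFun' f y F V hy s :=
  ConcreteCategory.congr_hom (colimit.ι_desc (Ψcocone f y F) (op ⟨V, hy⟩)) s

theorem Ψ_bijective [SpectralSpace X] [SpectralSpace Y] (hf : IsSpectralMap f) :
    Function.Bijective (Ψ f y F).hom := by
  have hW := proOpen_fibGen f y hf
  constructor
  · rw [injective_iff_map_eq_zero]
    intro x hx
    obtain ⟨V, hyV, s, rfl⟩ := gm_surj ((CohTop.push f).obj F) y x
    obtain ⟨V₁, hV₁c, hyV₁, hV₁⟩ := exists_compact_open y V hyV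
    rw [← gm_res ((CohTop.push f).obj F) hV₁ y hyV₁ s] at hx ⊢
    set s₁ : F.obj.obj (op ((Opens.map f).obj V₁)) :=
      F.obj.map (homOfLE ((Opens.map f).monotone hV₁)).op s with hs₁
    have hx1 : (Ψ f y F).hom (gm ((CohTop.push f).obj F) V₁ y hyV₁ s₁) = 0 := hx
    rw [Ψ_gm, legFun'_apply] at hx1
    have h0 : ηs (jW (fibGen f y)) F ((Opens.map f).obj V₁) s₁ = 0 :=
      eq_of_res_eq_of_le (pF (jW (fibGen f y)) F) _ le_top _ 0 (hx1.trans (map_zero _).symm)
    obtain ⟨V', hV'c, hWV', hs0⟩ := exists_res_eq_zero_of_ηs (fibGen f y) F hW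
      ((Opens.map f).obj V₁) (hf.isCompact_preimage_of_isOpen V₁.2 hV₁c) s₁ h0
    obtain ⟨V₂, hV₂c, hyV₂, hV₂⟩ := exists_nhd_map_le f y hf V' hWV'
    have hle : (Opens.map f).obj (V₂ ⊓ V₁) ≤ V' ⊓ (Opens.map f).obj V₁ :=
      fun z hz => ⟨hV₂ hz.1, hz.2⟩
    have h3 : F.obj.map (homOfLE ((Opens.map f).monotone (inf_le_right : V₂ ⊓ V₁ ≤ V₁))).op s₁ =
        0 := by
      have h4 := congrArg (F.obj.map (homOfLE hle).op) hs0
      rw [res_res, map_zero] at h4
      exact h4
    have h5 := gm_res ((CohTop.push f).obj F) (inf_le_right : V₂ ⊓ V₁ ≤ V₁) y ⟨hyV₂, hyV₁⟩ s₁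
    have h6 : ((CohTop.push f).obj F).obj.map (homOfLE (inf_le_right : V₂ ⊓ V₁ ≤ V₁)).op s₁ =
        0 := h3
    change gm ((CohTop.push f).obj F) V₁ y hyV₁ s₁ = 0
    rw [← h5, h6, map_zero]
  · intro t
    obtain ⟨V', hV'c, hWV', s, hs⟩ := exists_ηs_eq (fibGen f y) F hW ⊤ isCompact_univ
      ((pF (jW (fibGen f y)) F).obj.map (homOfLE le_top).op t)
    obtain ⟨V₂, hV₂c, hyV₂, hV₂⟩ := exists_nhd_map_le f y hf (V' ⊓ ⊤)
      (subset_inter hWV' (subset_univ _))
    refine ⟨gm ((CohTop.push f).obj F) V₂ y hyV₂ (F.obj.map (homOfLE hV₂).op s), ?_⟩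
    rw [Ψ_gm, legFun'_apply, ηs_res, hs, res_res, res_res, res_res]
    exact res_refl _ t

variable {F} in
lemma legFun'_nat {F' : CohTop.Ab X} (g : F ⟶ F') (V : Opens Y) (hy : y ∈ V)
    (s : F.obj.obj (op ((Opens.map f).obj V))) :
    legFun' f y F' V hy ((g.hom.app (op ((Opens.map f).obj V))).hom s) =
      (((CohTop.pull (jW (fibGen f y))).map g).hom.app (op ⊤)).hom (legFun' f y F V hy s) := by
  rw [legFun'_apply, legFun'_apply]
  have h1 := ηs_nat (jW (fibGen f y)) g ((Opens.map f).obj V) s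
  rw [h1]
  exact (NatTrans.naturality_apply ((CohTop.pull (jW (fibGen f y))).map g).hom
    (homOfLE _).op _).symm

variable {F} in
lemma Ψ_natural {F' : CohTop.Ab X} (g : F ⟶ F') :
    (St y).map ((CohTop.push f).map g) ≫ Ψ f y F' =
      Ψ f y F ≫ ((CohTop.pull (jW (fibGen f y))).map g).hom.app (op ⊤) := by
  ext x
  obtain ⟨V, hyV, s, rfl⟩ := gm_surj ((CohTop.push f).obj F) y x
  change (Ψ f y F').hom (((St y).map ((CohTop.push f).map g)).hom
      (gm ((CohTop.push f).obj F) V y hyV s)) =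
    (((CohTop.pull (jW (fibGen f y))).map g).hom.app (op ⊤)).hom
      ((Ψ f y F).hom (gm ((CohTop.push f).obj F) V y hyV s))
  rw [St_map_gm, Ψ_gm]
  have h1 : (((CohTop.push f).map g).hom.app (op V)).hom s =
      (g.hom.app (op ((Opens.map f).obj V))).hom s := rfl
  rw [h1, Ψ_gm, legFun'_nat]

end Degree0

section Delta

open Groth.Agent.Lib.Helper33.ExtDelta Groth.Agent.Lib.Helper83 Groth.Agent.Lib.Helper5.HZshRestrict
  DeltaF

local instance pushPFL : PreservesFiniteLimits (CohTop.push f) := by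
  have : (CohTop.push f).IsRightAdjoint :=
    (TopCat.Sheaf.pullbackPushforwardAdjunction AddCommGrpCat.{u} f).isRightAdjoint
  infer_instance

/-- the δ-functor `F ↦ (R^n f_* F)_y` -/
noncomputable def stalkPushDelta : CohDeltaFunctor (CohTop.Ab X) AddCommGrpCat.{u} ℕ :=
  postcompDelta (St y) (derivedLES (CohTop.push f)).toCohDeltaFunctor

lemma stalkPushDelta_isUniversal : (stalkPushDelta f y).IsUniversal := by
  apply Groth.Agent.S6773.result
  rw [Groth.Agent.S14349.result]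
  intro n I hI
  exact (St y).map_isZero ((CohTop.push f).isZero_rightDerived_obj_injective_succ n I)

variable [SpectralSpace X] [SpectralSpace Y]

lemma pullDelta_fibGen_isUniversal (hf : IsSpectralMap f) :
    (pullDelta (jW (fibGen f y))).IsUniversal := by
  apply Groth.Agent.S6773.result
  rw [Groth.Agent.S14349.result]
  intro n I hI
  have hW := proOpen_fibGen f y hf
  have hfl : TopCat.Sheaf.IsFlasque I := Groth.Agent.Lib.Helper28.ShCoh.isFlasque_of_injective I
  have h1 : Subsingleton (CohTop.HU (pF (jW (fibGen f y)) I) (n + 1) ⊤) :=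
    ⟨fun a b => (ext_pF_eq_zero (fibGen f y) I hW n ⊤ isCompact_univ a).trans
      (ext_pF_eq_zero (fibGen f y) I hW n ⊤ isCompact_univ b).symm⟩
  have h2 : Subsingleton (CohTop.H (pF (jW (fibGen f y)) I) (n + 1)) :=
    (Groth.Agent.Lib.Helper1.HUTopEquivH (pF (jW (fibGen f y)) I) (n + 1)).symm.toEquiv.subsingleton
  exact AddCommGrpCat.isZero_of_subsingleton
    (AddCommGrpCat.of (CohTop.H (pF (jW (fibGen f y)) I) (n + 1)))

/-- the comparison in degree `0`, as a natural isomorphism -/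
noncomputable def stalkSectionsIso (hf : IsSpectralMap f) :
    CohTop.push f ⋙ St y ≅ CohTop.pull (jW (fibGen f y)) ⋙ Γtop :=
  NatIso.ofComponents
    (fun F =>
      haveI : IsIso (Ψ f y F) := (ConcreteCategory.isIso_iff_bijective _).2 (Ψ_bijective f y F hf)
      asIso (Ψ f y F))
    (fun {_ _} g => Ψ_natural f y g)

/-- **`(R^p f_* F)_y ≅ H^p(W, F|_W)`**, as functors of `F` -/
theorem nonempty_stalk_iso (hf : IsSpectralMap f) (p : ℕ) :
    Nonempty ((stalkPushDelta f y).F p ≅ (pullDelta (jW (fibGen f y))).F p) :=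
  nonempty_iso_of_isUniversal _ _ (stalkPushDelta_isUniversal f y)
    (pullDelta_fibGen_isUniversal f y hf)
    (Functor.isoWhiskerRight (CohTop.push f).rightDerivedZeroIsoSelf (St y) ≪≫
      stalkSectionsIso f y hf ≪≫
      (Functor.isoWhiskerLeft (CohTop.pull (jW (fibGen f y))) extZeroIsoΓ).symm) p

end Delta

end Groth.Agent.Lib.Helper80.ProSec
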